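import Groth.Agent.RegLoc.Basic
import Mathlib.RingTheory.RegularLocalRing.Polynomial
import Mathlib.AlgebraicGeometry.EllipticCurve.Affine.Point
import Mathlib.RingTheory.DualNumber
import Mathlib.RingTheory.Ideal.Quotient.Operations
import Mathlib.RingTheory.LocalRing.ResidueField.Ideal

/-! Regularity of affine Weierstrass models over a discrete valuation ring. -/

set_option autoImplicit false
set_option linter.style.haveILetI false
universe u v

open Polynomial

namespace Groth.Agent.WeierReg

/-- Quotient of a regular local ring of a hypersurface at a point of order one. -/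
theorem isRegularLocalRing_quotient {B A : Type u} [CommRing B] [CommRing A] (q : B →+* A)
    (hq : Function.Surjective q) (f : B) (hker : RingHom.ker q = Ideal.span {f}) (P : Ideal A) [P.IsPrime]
    [IsRegularLocalRing (Localization.AtPrime (P.comap q))]
    (hf : ∀ s ∉ P.comap q, s * f ∉ P.comap q * P.comap q) :
    IsRegularLocalRing (Localization.AtPrime P) := by
  set Q := P.comap q with hQdef
  let g := Localization.localRingHom Q P q rfl
  let BQ := Localization.AtPrime Q
  let x : BQ := algebraMap B BQ f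
  have hfQ : f ∈ Q := by
    show q f ∈ P
    rw [show q f = 0 from RingHom.mem_ker.1 (hker ▸ Ideal.mem_span_singleton_self f)]
    exact zero_mem _
  have hx : x ∈ IsLocalRing.maximalIdeal BQ := (IsLocalization.AtPrime.to_map_mem_maximal_iff BQ Q f).2 hfQ
  have hx2 : x ∉ IsLocalRing.maximalIdeal BQ ^ 2 := by
    intro h
    rw [← Localization.AtPrime.map_eq_maximalIdeal, ← Ideal.map_pow, IsLocalization.mem_map_algebraMap_iff Q.primeCompl] at h
    obtain ⟨⟨⟨b, hb⟩, s⟩, e⟩ := h
    obtain ⟨c, hc⟩ := (IsLocalization.eq_iff_exists Q.primeCompl BQ).1 ((map_mul (algebraMap B BQ) f s.1).trans e)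
    refine hf (c * s : Q.primeCompl) (c * s).2 ?_
    have e2 : ((c * s : Q.primeCompl) : B) * f = c.1 * b := by
      rw [Submonoid.coe_mul, ← hc]; ring
    rw [e2, ← pow_two]
    exact Ideal.mul_mem_left _ _ hb
  obtain ⟨n, hn, -⟩ := RegLoc.exists_natCast_eq_ringKrullDim BQ
  have hsurj : Function.Surjective g := fun z => by
    obtain ⟨a, ⟨s, hs⟩, rfl⟩ := IsLocalization.exists_mk'_eq P.primeCompl z
    obtain ⟨a', rfl⟩ := hq a
    obtain ⟨s', rfl⟩ := hq s
    exact ⟨IsLocalization.mk' BQ a' (⟨s', hs⟩ : Q.primeCompl), Localization.localRingHom_mk' _ _ _ _ _ _⟩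
  have hk : RingHom.ker g = Ideal.span {x} := by
    refine le_antisymm (fun z hz => ?_) ((Ideal.span_singleton_le_iff_mem _).2 ?_)
    · obtain ⟨b, s, rfl⟩ := IsLocalization.exists_mk'_eq Q.primeCompl z
      rw [RingHom.mem_ker, Localization.localRingHom_mk', IsLocalization.mk'_eq_zero_iff] at hz
      obtain ⟨⟨t, ht⟩, e⟩ := hz
      obtain ⟨t', rfl⟩ := hq t
      have hmem : t' * b ∈ Ideal.span {f} := by rw [← hker, RingHom.mem_ker, map_mul]; exact e
      obtain ⟨c, hc⟩ := Ideal.mem_span_singleton'.1 hmem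
      refine Ideal.mem_span_singleton'.2 ⟨IsLocalization.mk' BQ c ((⟨t', ht⟩ : Q.primeCompl) * s), ?_⟩
      rw [_root_.mul_comm, IsLocalization.mul_mk'_eq_mk'_of_mul, IsLocalization.mk'_eq_iff_eq,
        Submonoid.coe_mul]
      rw [_root_.mul_comm f c, hc]
      congr 1
      ring
    · rw [RingHom.mem_ker, Localization.localRingHom_to_map,
        show q f = 0 from RingHom.mem_ker.1 (hker ▸ Ideal.mem_span_singleton_self f), map_zero]
  haveI := (RegLoc.isRegularLocalRing_quotient_span_singleton hx hx2 hn).1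
  exact IsRegularLocalRing.of_ringEquiv
    ((Ideal.quotEquivOfEq hk.symm).trans (RingHom.quotientKerEquivOfSurjective hsurj))

variable {R : Type u} [CommRing R] (W : WeierstrassCurve.Affine R)

/-- Evaluation of bivariate polynomials. -/
noncomputable abbrev ev {S : Type v} [CommRing S] (j : R →+* S) (a b : S) : R[X][X] →+* S :=
  eval₂RingHom (eval₂RingHom j a) b

lemma ev_polynomial {S : Type v} [CommRing S] (j : R →+* S) (a b : S) :
    ev j a b W.polynomial = b ^ 2 + (j W.a₁ * a + j W.a₃) * b -
      (a ^ 3 + j W.a₂ * a ^ 2 + j W.a₄ * a + j W.a₆) := by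
  simp [ev, WeierstrassCurve.Affine.polynomial, eval₂_pow]

/-- At a prime where the equation has vanishing differential, the point is singular. -/
lemma partials_eq_zero {κ : Type v} [Field κ] (φ : R[X][X] →+* κ) {s : R[X][X]}
    (hs : φ s ≠ 0) (h : s * W.polynomial ∈ RingHom.ker φ * RingHom.ker φ) :
    let j := φ.comp (C.comp C)
    ev j (φ (C X)) (φ X) W.polynomial = 0 ∧
      2 * φ X + j W.a₁ * φ (C X) + j W.a₃ = 0 ∧
      j W.a₁ * φ X - (3 * φ (C X) ^ 2 + 2 * j W.a₂ * φ (C X) + j W.a₄) = 0 := by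
  intro j
  have hφ : φ = ev j (φ (C X)) (φ X) := by
    refine Polynomial.ringHom_ext' (Polynomial.ringHom_ext' (RingHom.ext fun r => ?_) ?_) ?_ <;> simp [ev, j]
  have h0 : φ W.polynomial = 0 := by
    have h' := RingHom.mem_ker.1 (Ideal.mul_le_right h)
    rw [map_mul] at h'
    exact (mul_eq_zero.1 h').resolve_left hs
  have key : ∀ u w : κ, TrivSqZeroExt.snd (ev ((TrivSqZeroExt.inlHom κ κ).comp j)
      (TrivSqZeroExt.inl (φ (C X)) + TrivSqZeroExt.inr u) (TrivSqZeroExt.inl (φ X) + TrivSqZeroExt.inr w)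
      W.polynomial) = 0 := by
    intro u w
    set Φ := ev ((TrivSqZeroExt.inlHom κ κ).comp j)
      (TrivSqZeroExt.inl (φ (C X)) + TrivSqZeroExt.inr u) (TrivSqZeroExt.inl (φ X) + TrivSqZeroExt.inr w) with hΦ
    have hc : (TrivSqZeroExt.fstHom κ κ κ).toRingHom.comp Φ = φ := by
      refine Polynomial.ringHom_ext' (Polynomial.ringHom_ext' (RingHom.ext fun r => ?_) ?_) ?_ <;> simp [hΦ, ev, j]
    have hfst : ∀ p, TrivSqZeroExt.fst (Φ p) = φ p := fun p => congr($hc p)
    have hsq : RingHom.ker φ * RingHom.ker φ ≤ RingHom.ker Φ := by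
      rw [Ideal.mul_le]
      intro a ha b hb
      rw [RingHom.mem_ker, map_mul]
      refine TrivSqZeroExt.ext ?_ ?_ <;>
        simp [hfst, RingHom.mem_ker.1 ha, RingHom.mem_ker.1 hb]
    have h' := congrArg TrivSqZeroExt.snd (RingHom.mem_ker.1 (hsq h))
    rw [map_mul, TrivSqZeroExt.snd_mul, hfst, hfst, h0] at h'
    simpa [hs] using h'
  refine ⟨by rw [← hφ, h0], ?_, ?_⟩
  · have := key 0 1
    rw [ev_polynomial] at this
    simp [TrivSqZeroExt.snd_pow] at this
    linear_combination this
  · have := key 1 0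
    rw [ev_polynomial] at this
    simp [TrivSqZeroExt.snd_pow] at this
    linear_combination this

/-- The only possible singular point of the reduced equation is the origin. -/
lemma origin {κ : Type v} [Field κ] {a₁ a₂ a b : κ} (he : b ^ 2 + a₁ * a * b - (a ^ 3 + a₂ * a ^ 2) = 0)
    (hb : 2 * b + a₁ * a = 0) (ha : a₁ * b - (3 * a ^ 2 + 2 * a₂ * a) = 0) : a = 0 ∧ b = 0 := by
  have h0 : a = 0 := by
    have : a * (a * a) = 0 := by linear_combination 2 * he - b * hb - a * ha
    simpa using this
  subst h0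
  exact ⟨rfl, by simpa using he⟩

variable [IsDomain R] [IsDiscreteValuationRing R]

open IsLocalRing in
/-- Regularity of the affine Weierstrass model. -/
theorem isRegularLocalRing_localization (h3 : W.a₃ ∈ maximalIdeal R) (h4 : W.a₄ ∈ maximalIdeal R)
    (h6 : W.a₆ ∈ maximalIdeal R) (h6' : W.a₆ ∉ maximalIdeal R ^ 2) (P : Ideal W.CoordinateRing) [P.IsPrime]
    (hcase : W.Δ ≠ 0 ∨ ∀ r ∈ maximalIdeal R, algebraMap R W.CoordinateRing r ∈ P) :
    IsRegularLocalRing (Localization.AtPrime P) := by
  set q := WeierstrassCurve.Affine.CoordinateRing.mk W with hq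
  refine isRegularLocalRing_quotient q AdjoinRoot.mk_surjective W.polynomial (Ideal.mk_ker) P ?_
  intro s hs hsf
  set Q := P.comap q with hQ
  let φ : R[X][X] →+* Q.ResidueField := algebraMap R[X][X] Q.ResidueField
  have hker : RingHom.ker φ = Q := Ideal.ker_algebraMap_residueField Q
  obtain ⟨heq, hY, hX⟩ := partials_eq_zero W φ (s := s)
    (fun h => hs (hker ▸ RingHom.mem_ker.2 h)) (by rw [hker]; exact hsf)
  set j := φ.comp (C.comp C) with hj
  have hm : ∀ r ∈ maximalIdeal R, j r = 0 := by
    by_contra hne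
    rcases hcase with hΔ | hP
    · have hinj : Function.Injective j := by
        refine (RingHom.injective_iff_ker_eq_bot j).2 (by_contra fun hk => hne fun r hr => ?_)
        haveI : (RingHom.ker j).IsPrime := RingHom.ker_isPrime j
        exact RingHom.mem_ker.1 (((IsLocalRing.maximal_ideal_unique R).unique
          (IsLocalRing.maximalIdeal.isMaximal R) (Ring.DimensionLEOne.maximalOfPrime hk ‹_›)) ▸ hr)
      have hΔ' : (W.map j).toAffine.Δ ≠ 0 := by
        rw [WeierstrassCurve.map_Δ]; exact (map_ne_zero_iff j hinj).2 hΔ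
      have hE : (W.map j).toAffine.Equation (φ (C X)) (φ X) := by
        rw [WeierstrassCurve.Affine.equation_iff', ← heq, ev_polynomial]
        simp only [WeierstrassCurve.map_a₁, WeierstrassCurve.map_a₂, WeierstrassCurve.map_a₃,
          WeierstrassCurve.map_a₄, WeierstrassCurve.map_a₆]
        ring
      have hN := ((WeierstrassCurve.Affine.equation_iff_nonsingular_of_Δ_ne_zero hΔ').1 hE)
      rw [WeierstrassCurve.Affine.nonsingular_iff'] at hN
      rcases hN.2 with h | h
      · exact h hX
      · exact h hY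
    · refine hne fun r hr => RingHom.mem_ker.1 ?_
      show C (C r) ∈ RingHom.ker φ
      rw [hker]
      exact hP r hr
  rw [ev_polynomial, hm _ h3, hm _ h4, hm _ h6] at heq
  rw [hm _ h3] at hY
  rw [hm _ h4] at hX
  obtain ⟨ha, hb⟩ := origin (a₁ := j W.a₁) (a₂ := j W.a₂) (a := φ (C X)) (b := φ X)
    (by linear_combination heq) (by linear_combination hY) (by linear_combination hX)
  let ψ : R[X][X] →+* R := ev (RingHom.id R) 0 0
  have hφψ : φ = j.comp ψ := by
    refine Polynomial.ringHom_ext' (Polynomial.ringHom_ext' (RingHom.ext fun r => ?_) ?_) ?_ <;>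
      simp [ψ, ev, j, ha, hb]
  have hQψ : Q = (maximalIdeal R).comap ψ := by
    rw [← hker]
    ext z
    rw [RingHom.mem_ker, hφψ, Ideal.mem_comap, RingHom.comp_apply]
    refine ⟨fun hz => by_contra fun hzm => ?_, hm _⟩
    have hu : IsUnit (ψ z) := by simpa [IsLocalRing.mem_maximalIdeal] using hzm
    exact (hu.map j).ne_zero hz
  have hsu : IsUnit (ψ s) := by
    rw [hQψ] at hs
    simpa [IsLocalRing.mem_maximalIdeal] using hs
  have h2 : ψ (s * W.polynomial) ∈ maximalIdeal R ^ 2 := by
    have := Ideal.mem_map_of_mem ψ hsf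
    rw [hQψ, Ideal.map_mul] at this
    exact pow_two (maximalIdeal R) ▸ Ideal.mul_mono Ideal.map_comap_le Ideal.map_comap_le this
  refine h6' ?_
  rw [map_mul, ev_polynomial] at h2
  simpa [Ideal.unit_mul_mem_iff_mem _ hsu] using h2

end Groth.Agent.WeierReg
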